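import Mathlib

/-!
# Trace pairings of reduced finite algebras in characteristic zero
-/

set_option autoImplicit false
set_option linter.style.haveILetI false

universe u

open scoped nonZeroDivisors

namespace Groth.Agent.DegPush

/-- In a reduced finite algebra over a field of characteristic zero the trace pairing is nondegenerate. -/
theorem eq_zero_of_trace_mul_field {K L : Type*} [Field K] [CharZero K] [CommRing L] [_root_.IsReduced L] [Algebra K L]
    [FiniteDimensional K L] {m : L} (hm : ∀ a : L, Algebra.trace K L (a * m) = 0) : m = 0 := by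
  classical
  let φ : L →ₗ[K] L := LinearMap.mulLeft K (m * m)
  let ψ : L →ₗ[K] L := LinearMap.mulLeft K m
  have hker : LinearMap.ker φ = LinearMap.ker ψ := by
    refine le_antisymm (fun x hx => ?_) fun x hx => ?_
    · have h1 : m * m * x = 0 := hx
      have h2 : (m * x) * (m * x) = 0 := by linear_combination x * h1
      exact IsReduced.eq_zero (m * x) ⟨2, by rw [pow_two, h2]⟩
    · have h1 : m * x = 0 := hx
      show m * m * x = 0
      rw [mul_assoc, h1, mul_zero]
  have hrange : LinearMap.range φ = LinearMap.range ψ := by
    refine Submodule.eq_of_le_of_finrank_eq ?_ ?_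
    · rintro _ ⟨x, rfl⟩
      exact ⟨m * x, (mul_assoc m m x).symm⟩
    · have h1 := φ.finrank_range_add_finrank_ker
      have h2 := ψ.finrank_range_add_finrank_ker
      rw [hker] at h1
      omega
  obtain ⟨y, hy⟩ : m ∈ LinearMap.range φ := hrange ▸ ⟨1, mul_one m⟩
  replace hy : m * m * y = m := hy
  let e := y * m
  have hee : e * e = e := by simp only [e]; linear_combination y * hy
  let P : L →ₗ[K] L := Algebra.lmul K L e
  have hP : LinearMap.IsProj (LinearMap.range P) P := by
    refine ⟨fun x => ⟨x, rfl⟩, ?_⟩
    rintro _ ⟨x, rfl⟩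
    show e * (e * x) = e * x
    rw [← mul_assoc, hee]
  have h0 : (Module.finrank K (LinearMap.range P) : K) = 0 := by
    rw [← hP.trace]
    exact hm y
  rw [Nat.cast_eq_zero, Submodule.finrank_eq_zero, LinearMap.range_eq_bot] at h0
  have he : e = 0 := by simpa [P] using congr($h0 1)
  calc m = m * m * y := hy.symm
    _ = m * e := by simp only [e]; ring
    _ = 0 := by rw [he, mul_zero]

/-- The trace pairing of a reduced finite free algebra over a domain of characteristic zero is nondegenerate. -/
theorem eq_zero_of_trace_mul' {R S : Type u} [CommRing R] [IsDomain R] [CharZero R] [CommRing S] [_root_.IsReduced S]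
    [Algebra R S] [Module.Free R S] [Module.Finite R S] (K L : Type u) [Field K] [CommRing L] [Algebra R K]
    [IsFractionRing R K] [Algebra S L] [IsLocalization (Algebra.algebraMapSubmonoid S R⁰) L] [Algebra R L]
    [IsScalarTower R S L] [Algebra K L] [IsScalarTower R K L] [_root_.IsReduced L] {m : S}
    (hm : ∀ a : S, Algebra.trace R S (a * m) = 0) : m = 0 := by
  haveI : CharZero K := charZero_of_injective_algebraMap (IsFractionRing.injective R K)
  haveI : FiniteDimensional K L := Module.Finite.of_isLocalization R S R⁰
  have hm0 : algebraMap S L m = 0 := eq_zero_of_trace_mul_field (K := K) fun z => by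
    obtain ⟨⟨a, _, r, hr, rfl⟩, h⟩ := IsLocalization.surj (Algebra.algebraMapSubmonoid S R⁰) z
    simp only at h
    have hr0 : algebraMap R K r ≠ 0 := by
      rw [Ne, map_eq_zero_iff _ (IsFractionRing.injective R K)]
      exact nonZeroDivisors.ne_zero hr
    have h0 : Algebra.trace K L (algebraMap K L (algebraMap R K r) * (z * algebraMap S L m)) = 0 := by
      rw [← mul_assoc, mul_comm (algebraMap K L _) z, ← IsScalarTower.algebraMap_apply,
        IsScalarTower.algebraMap_apply R S L, h, ← map_mul, Algebra.trace_localization R R⁰ (a * m), hm, map_zero]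
    rw [← Algebra.smul_def, map_smul, smul_eq_mul] at h0
    exact (mul_eq_zero.1 h0).resolve_left hr0
  obtain ⟨⟨_, r, hr, rfl⟩, h⟩ := (IsLocalization.map_eq_zero_iff (Algebra.algebraMapSubmonoid S R⁰) L m).1 hm0
  simp only at h
  rw [← Algebra.smul_def] at h
  exact (smul_eq_zero.1 h).resolve_left (nonZeroDivisors.ne_zero hr)

theorem eq_zero_of_trace_mul {R S : Type u} [CommRing R] [IsDomain R] [CharZero R] [CommRing S] [_root_.IsReduced S]
    [Algebra R S] [Module.Free R S] [Module.Finite R S] {m : S} (hm : ∀ a : S, Algebra.trace R S (a * m) = 0) :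
    m = 0 :=
  eq_zero_of_trace_mul' (FractionRing R) (Localization (Algebra.algebraMapSubmonoid S R⁰)) hm

end Groth.Agent.DegPush
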