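import Groth.Agent.FinCovTr.TraceForm
import Groth.Agent.HNSplit.Dual
import Groth.Agent.FlatClosure.Basic
import Groth.Agent.DegPush.Alg
import Mathlib

/-!
# The direct image of the structure sheaf of a finite flat generically reduced cover has degree `≤ 0`
-/

set_option autoImplicit false
set_option linter.style.haveILetI false
set_option backward.isDefEq.respectTransparency false
set_option backward.isDefEq.respectTransparency.types false
set_option maxHeartbeats 1000000
set_option synthInstance.maxHeartbeats 200000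

universe u

open CategoryTheory CategoryTheory.Limits AlgebraicGeometry TopologicalSpace Opposite
open scoped nonZeroDivisors

noncomputable section

namespace Groth.Agent.DegPush

variable {Y C : Scheme.{u}} [IsIntegral C] (g : Y ⟶ C) [IsFinite g]

/-- Sections of a finite flat cover with reduced generic fibre are reduced over affine opens. -/
theorem isReduced_sections (hred : AlgebraicGeometry.IsReduced (g.fiber (genericPoint C))) {W : C.Opens}
    (hW : IsAffineOpen W) [Nonempty W]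
    (hfree : letI := (g.app W).hom.toAlgebra; Module.Free Γ(C, W) Γ(Y, g ⁻¹ᵁ W)) :
    _root_.IsReduced Γ(Y, g ⁻¹ᵁ W) := by
  letI : Algebra Γ(C, W) Γ(Y, g ⁻¹ᵁ W) := (g.app W).hom.toAlgebra
  haveI : Module.Free Γ(C, W) Γ(Y, g ⁻¹ᵁ W) := hfree
  haveI : Module.Finite Γ(C, W) Γ(Y, g ⁻¹ᵁ W) := IsFinite.finite_app (f := g) W hW
  haveI := FlatClosure.flat_fromSpecResidueField_generic C
  haveI : Flat (g.fiberι (genericPoint C)) := MorphismProperty.pullback_fst _ _ inferInstance
  haveI := hred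
  refine ⟨fun s hs => by_contra fun hs0 => ?_⟩
  let I : Ideal Γ(Y, g ⁻¹ᵁ W) := LinearMap.ker (LinearMap.mulRight Γ(Y, g ⁻¹ᵁ W) s)
  have hI : I.comap (algebraMap Γ(C, W) Γ(Y, g ⁻¹ᵁ W)) = ⊥ := eq_bot_iff.2 fun r hr => by
    have h1 : r • s = 0 := by rw [Algebra.smul_def]; exact hr
    exact (smul_eq_zero.1 h1).resolve_right hs0
  obtain ⟨P, hIP, hP, hPc⟩ :=
    Ideal.exists_ideal_over_prime_of_isIntegral (⊥ : Ideal Γ(C, W)) I hI.le
  let q : PrimeSpectrum Γ(Y, g ⁻¹ᵁ W) := ⟨P, hP⟩
  have hV := hW.preimage g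
  let y := hV.fromSpec q
  have hy : y ∈ g ⁻¹ᵁ W := by
    have h : y ∈ Set.range hV.fromSpec := ⟨q, rfl⟩
    rwa [hV.range_fromSpec] at h
  have hpy : hV.primeIdealOf ⟨y, hy⟩ = q := hV.fromSpec.isOpenEmbedding.injective (hV.fromSpec_primeIdealOf _)
  have hgy : g y = genericPoint C := by
    have hηW : genericPoint C ∈ W :=
      ((genericPoint_spec C).specializes (Set.mem_univ _)).mem_open W.2 (Classical.arbitrary W).2
    haveI : Nonempty Γ(C, W) := ⟨0⟩
    have h1 : (hW.primeIdealOf ⟨g y, hy⟩).asIdeal = (⊥ : Ideal Γ(C, W)) := by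
      have h := IsAffineOpen.comap_primeIdealOf_appLE (f := g) W hW (g ⁻¹ᵁ W) hV le_rfl (x := y) hy
      rw [Scheme.Hom.appLE_eq_app] at h
      rw [← h, PrimeSpectrum.comap_asIdeal, hpy]
      exact hPc
    have h2 := hW.primeIdealOf_genericPoint
    have h3 : hW.primeIdealOf ⟨g y, hy⟩ = hW.primeIdealOf ⟨genericPoint C, hηW⟩ := by
      rw [h2]
      refine PrimeSpectrum.ext ?_
      rw [h1]
      haveI : IsDomain Γ(C, W) := inferInstance
      have h4 : genericPoint (Spec Γ(C, W)) = (⟨⊥, Ideal.isPrime_bot⟩ : PrimeSpectrum Γ(C, W)) :=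
        genericPoint_eq_bot_of_affine Γ(C, W)
      exact (congrArg PrimeSpectrum.asIdeal h4).symm
    have h5 := congr(hW.fromSpec $h3)
    rwa [hW.fromSpec_primeIdealOf, hW.fromSpec_primeIdealOf] at h5
  let y' := g.asFiber y
  have key : ∀ (η : C) (e : g y = η) [Flat (g.fiberι η)] [AlgebraicGeometry.IsReduced (g.fiber η)],
      IsReduced (Y.presheaf.stalk y) := by
    intro η e _ _
    subst e
    have hyy : g.fiberι (g y) (g.asFiber y) = y := g.fiberι_asFiber y
    haveI : IsLocalHom ((g.fiberι (g y)).stalkMap (g.asFiber y)).hom := inferInstance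
    have hflat := Flat.stalkMap (g.fiberι (g y)) (g.asFiber y)
    have hinj : Function.Injective ((g.fiberι (g y)).stalkMap (g.asFiber y)).hom := by
      letI := ((g.fiberι (g y)).stalkMap (g.asFiber y)).hom.toAlgebra
      haveI : Module.Flat (Y.presheaf.stalk (g.fiberι (g y) (g.asFiber y))) ((g.fiber (g y)).presheaf.stalk (g.asFiber y)) :=
        hflat
      haveI : IsLocalHom (algebraMap (Y.presheaf.stalk (g.fiberι (g y) (g.asFiber y)))
          ((g.fiber (g y)).presheaf.stalk (g.asFiber y))) := inferInstanceAs (IsLocalHom ((g.fiberι (g y)).stalkMap _).hom)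
      haveI := Module.FaithfullyFlat.of_flat_of_isLocalHom (A := Y.presheaf.stalk (g.fiberι (g y) (g.asFiber y)))
        (B := (g.fiber (g y)).presheaf.stalk (g.asFiber y))
      exact FaithfulSMul.algebraMap_injective _ _
    have h := isReduced_of_injective _ hinj
    rwa [hyy] at h
  haveI : IsReduced (Y.presheaf.stalk y) := key _ hgy
  letI := Y.presheaf.algebra_section_stalk (⟨y, hy⟩ : g ⁻¹ᵁ W)
  haveI := hV.isLocalization_stalk ⟨y, hy⟩
  have hs1 : algebraMap Γ(Y, g ⁻¹ᵁ W) (Y.presheaf.stalk y) s = 0 := (hs.map _).eq_zero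
  obtain ⟨⟨u, hu⟩, hus⟩ :=
    (IsLocalization.map_eq_zero_iff (hV.primeIdealOf ⟨y, hy⟩).asIdeal.primeCompl (Y.presheaf.stalk y) s).1 hs1
  rw [hpy] at hu
  exact hu (hIP (show u * s = 0 from hus))

/-- The direct image of the structure sheaf of a finite flat, generically reduced cover has degree at most zero. -/
theorem deg_push_nonpos (k : Type u) [Field k] [CharZero k] [C.Over (Spec (CommRingCat.of k))]
    [IsProper (C ↘ Spec (CommRingCat.of k))] [Smooth (C ↘ Spec (CommRingCat.of k))] (hdim : topologicalKrullDim C = 1)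
    (d : ℕ) (hd : FlatMod.IsFinLocFreeOfRank d ((Scheme.Modules.pushforward g).obj (Coh.structureModule Y)))
    (hred : AlgebraicGeometry.IsReduced (g.fiber (genericPoint C))) :
    Curv2.deg k C ((Scheme.Modules.pushforward g).obj (Coh.structureModule Y)) d ≤ 0 := by
  rcases Nat.eq_zero_or_pos d with rfl | hd0
  · exact (W7Slope.deg_rank_zero (k := k) hd).le
  haveI : IsIso (RelSpecFT.fromPush g) :=
    GrT.isIso_of_locally _ (fun W => Function.injective_id) fun W t y hy =>
      ⟨W, le_rfl, hy, t, (QC.res_self _ _ t).symm⟩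
  let A := RelSpec.QCAlg.directImage g
  have hA : FlatMod.IsFinLocFreeOfRank d A.toModule := fun x => by
    obtain ⟨U, hx, ⟨i⟩⟩ := hd x
    exact ⟨U, hx, ⟨(Scheme.Modules.restrictFunctor U.ι).mapIso (asIso (RelSpecFT.fromPush g)).symm ≪≫ i⟩⟩
  have hAl : FlatMod.IsFinLocFree A.toModule := HNSplit.isFinLocFree_of_rank hA
  obtain ⟨τ, hτ⟩ := FinCovTr.exists_trace hAl
  haveI : Mono (FinCovTr.formMap A τ) := by
    refine FinCovTr.mono_formMap A τ hτ hAl fun U W hU hWU hW hne m hm => ?_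
    haveI : Nonempty W := hne.to_subtype
    obtain ⟨n, fr, hfr⟩ := hU
    obtain ⟨hfree, hfin⟩ := FinCovTr.finite_free hfr hWU
    letI : Algebra Γ(C, W) Γ(Y, g ⁻¹ᵁ W) := (g.app W).hom.toAlgebra
    haveI : Module.Free Γ(C, W) Γ(Y, g ⁻¹ᵁ W) := hfree
    haveI : Module.Finite Γ(C, W) Γ(Y, g ⁻¹ᵁ W) := hfin
    haveI : _root_.IsReduced Γ(Y, g ⁻¹ᵁ W) := isReduced_sections g hred hW hfree
    let ρ : k →+* Γ(C, W) := (((Scheme.ΓSpecIso (CommRingCat.of k)).inv ≫ (C ↘ Spec (CommRingCat.of k)).appTop) ≫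
      C.presheaf.map (homOfLE (le_top : W ≤ ⊤)).op).hom
    haveI : CharZero Γ(C, W) := charZero_of_injective_ringHom ρ.injective
    exact eq_zero_of_trace_mul (R := Γ(C, W)) (S := Γ(Y, g ⁻¹ᵁ W)) hm
  have hX := W7Slope.regCurve_of_smooth (k := k) (X := C) hdim
  obtain ⟨hD, hdD⟩ := HNSplit.rank_deg_dual k hdim hX d hd0 hA
  have h := (W7Slope.deg_le_of_mono k hX hA hD (FinCovTr.formMap A τ)).1
  rw [hdD] at h
  rw [W7Slope.deg_iso (k := k) (asIso (RelSpecFT.fromPush g))]
  show Curv2.deg k C A.toModule d ≤ 0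
  omega

end Groth.Agent.DegPush
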